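import Mathlib
import Groth.Prelude.Def_LefPen

/-!
# Dimension counts through polynomial parametrisations
-/

set_option autoImplicit false
universe u

namespace Groth.Agent.GenDim

open MvPolynomial

variable {k : Type u} [Field k]

theorem exists_rel {σ τ : Type} [Fintype σ] [Fintype τ] (h : Fintype.card τ < Fintype.card σ)
    (φ : σ → MvPolynomial τ k) : ∃ P : MvPolynomial σ k, P ≠ 0 ∧ aeval φ P = 0 := by
  by_contra hc
  have hind : AlgebraicIndependent k φ := by
    rw [algebraicIndependent_iff]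
    intro P hP
    by_contra hne
    exact hc ⟨P, hne, hP⟩
  have := hind.lift_cardinalMk_le_trdeg
  rw [MvPolynomial.trdeg_of_isDomain] at this
  simp at this
  omega

theorem eval_aeval {σ τ : Type} (φ : σ → MvPolynomial τ k) (z : τ → k) (P : MvPolynomial σ k) :
    eval z (aeval φ P) = eval (fun i => eval z (φ i)) P := by
  induction P using MvPolynomial.induction_on with
  | C a => simp
  | add p q hp hq => simp only [map_add, hp, hq]
  | mul_X p i hp => simp only [map_mul, hp, eval_X, aeval_X]

theorem exists_finite_fibre {σ τ : Type} [Fintype σ] [Fintype τ] (h : Fintype.card τ ≤ Fintype.card σ)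
    (φ : σ → MvPolynomial τ k) :
    ∃ L : MvPolynomial σ k, L ≠ 0 ∧ ∀ c : σ → k, eval c L ≠ 0 →
      {z : τ → k | ∀ i, eval z (φ i) = c i}.Finite := by
  classical
  have h1 : ∀ j : τ, ∃ P : MvPolynomial (Option σ) k, P ≠ 0 ∧
      aeval (fun o : Option σ => o.elim (X j) φ) P = 0 := fun j =>
    exists_rel (by rw [Fintype.card_option]; omega) _
  choose P hP hP' using h1
  have hne : ∀ j, optionEquivLeft k σ (P j) ≠ 0 := fun j => by
    rw [ne_eq, EmbeddingLike.map_eq_zero_iff]; exact hP j
  refine ⟨∏ j, (optionEquivLeft k σ (P j)).leadingCoeff,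
    Finset.prod_ne_zero_iff.2 fun j _ => Polynomial.leadingCoeff_ne_zero.2 (hne j), fun c hc => ?_⟩
  rw [map_prod, Finset.prod_ne_zero_iff] at hc
  refine Set.Finite.subset (Set.Finite.pi (t := fun j : τ =>
    {x : k | ((optionEquivLeft k σ (P j)).map (eval c)).IsRoot x}) fun j => ?_) ?_
  · refine Polynomial.finite_setOf_isRoot fun h0 => hc j (Finset.mem_univ j) ?_
    have := congrArg (fun q => Polynomial.coeff q (optionEquivLeft k σ (P j)).natDegree) h0
    simp only [Polynomial.coeff_map, Polynomial.coeff_zero] at this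
    exact this
  · intro z hz
    rw [Set.mem_univ_pi]
    intro j
    show Polynomial.eval (z j) _ = 0
    rw [← optionEquivLeft_elim_eval]
    have := congrArg (eval z) (hP' j)
    rw [eval_aeval, map_zero] at this
    refine Eq.trans ?_ this
    congr 2
    funext o
    cases o with
    | none => simp
    | some i => simp [hz i]

theorem isPolyFun_eval {V : Type u} [AddCommGroup V] [Module k V] {σ : Type} (l : σ → Module.Dual k V)
    (P : MvPolynomial σ k) : LefPen.IsPolyFun k (fun v : V => eval (fun i => l i v) P) := by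
  unfold LefPen.IsPolyFun
  induction P using MvPolynomial.induction_on with
  | C a =>
    have : (fun v : V => eval (fun i => l i v) (C a : MvPolynomial σ k)) = algebraMap k (V → k) a := by
      funext v; simp
    rw [this]; exact Subalgebra.algebraMap_mem _ _
  | add p q hp hq => simp only [map_add]; exact Subalgebra.add_mem _ hp hq
  | mul_X p i hp =>
    simp only [map_mul, eval_X]
    exact Subalgebra.mul_mem _ hp (Algebra.subset_adjoin ⟨l i, rfl⟩)

theorem isGeneric_mono {V : Type u} [AddCommGroup V] [Module k V] {S T : Set V} (hS : LefPen.IsGeneric k S)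
    (hST : S ⊆ T) : LefPen.IsGeneric k T :=
  let ⟨f, h1, h2, h3⟩ := hS
  ⟨f, h1, h2, fun v hv => hST (h3 v hv)⟩

section Charts

variable [Infinite k] {V : Type u} [AddCommGroup V] [Module k V] {N : ℕ}
  (T : V →ₗ[k] MvPolynomial (Fin N) k) (M : Finset (Fin N →₀ ℕ))

/-- A polynomial in the coefficients which is not zero gives a generic set. -/
theorem isGeneric_eval_ne_zero (hsurj : ∀ β ∈ M, ∃ v, T v = monomial β (1 : k))
    (L : MvPolynomial ↥M k) (hL : L ≠ 0) :
    LefPen.IsGeneric k {v : V | eval (fun β : ↥M => coeff β.1 (T v)) L ≠ 0} := by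
  classical
  let l : ↥M → Module.Dual k V := fun β => (lcoeff k β.1) ∘ₗ T
  choose w hw using hsurj
  obtain ⟨c, hc⟩ : ∃ c : ↥M → k, eval c L ≠ 0 := by
    by_contra hc
    push Not at hc
    exact hL (MvPolynomial.funext fun x => by rw [hc x, map_zero])
  refine ⟨fun v => eval (fun β => l β v) L, isPolyFun_eval l L, ⟨∑ β : ↥M, c β • w β.1 β.2, ?_⟩, fun v hv => hv⟩
  have : (fun β => l β (∑ β : ↥M, c β • w β.1 β.2)) = c := by
    funext β
    show coeff β.1 (T _) = c β
    rw [map_sum, coeff_sum, Finset.sum_eq_single β]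
    · rw [map_smul, hw, coeff_smul, coeff_monomial, if_pos rfl, smul_eq_mul, mul_one]
    · intro b _ hb
      rw [map_smul, hw, coeff_smul, coeff_monomial, if_neg fun h => hb (Subtype.ext h), smul_eq_mul, mul_zero]
    · simp
  simpa only [this] using hc

theorem isGeneric_avoid (hsurj : ∀ β ∈ M, ∃ v, T v = monomial β (1 : k))
    {ι : Type} [Fintype ι] (τ : ι → Type) [∀ i, Fintype (τ i)]
    (G : ∀ i, MvPolynomial (Fin N) (MvPolynomial (τ i) k)) (hcard : ∀ i, Fintype.card (τ i) < M.card) :
    LefPen.IsGeneric k {v : V | ∀ i (z : τ i → k), T v ≠ MvPolynomial.map (eval z) (G i)} := by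
  classical
  have h1 : ∀ i, ∃ P : MvPolynomial ↥M k, P ≠ 0 ∧ aeval (fun β : ↥M => coeff β.1 (G i)) P = 0 := fun i =>
    exists_rel (by rw [Fintype.card_coe]; exact hcard i) _
  choose P hP hP' using h1
  refine isGeneric_mono (isGeneric_eval_ne_zero T M hsurj (∏ i, P i) (Finset.prod_ne_zero_iff.2 fun i _ => hP i)) ?_
  intro v hv i z hz
  refine hv ?_
  rw [map_prod]
  refine Finset.prod_eq_zero (Finset.mem_univ i) ?_
  have := congrArg (eval z) (hP' i)
  rw [eval_aeval, map_zero] at this
  refine Eq.trans ?_ this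
  congr 2
  funext β
  rw [hz, coeff_map]

theorem isGeneric_finite (hsurj : ∀ β ∈ M, ∃ v, T v = monomial β (1 : k))
    {ι : Type} [Fintype ι] (τ : ι → Type) [∀ i, Fintype (τ i)]
    (G : ∀ i, MvPolynomial (Fin N) (MvPolynomial (τ i) k)) (hcard : ∀ i, Fintype.card (τ i) ≤ M.card) :
    LefPen.IsGeneric k {v : V | ∀ i, {z : τ i → k | T v = MvPolynomial.map (eval z) (G i)}.Finite} := by
  classical
  have h1 : ∀ i, ∃ L : MvPolynomial ↥M k, L ≠ 0 ∧ ∀ c : ↥M → k, eval c L ≠ 0 →
      {z : τ i → k | ∀ β : ↥M, eval z (coeff β.1 (G i)) = c β}.Finite := fun i =>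
    exists_finite_fibre (by rw [Fintype.card_coe]; exact hcard i) _
  choose L hL hL' using h1
  refine isGeneric_mono (isGeneric_eval_ne_zero T M hsurj (∏ i, L i) (Finset.prod_ne_zero_iff.2 fun i _ => hL i)) ?_
  intro v hv i
  have hv' : ∀ i, eval (fun β : ↥M => coeff β.1 (T v)) (L i) ≠ 0 := fun i h0 =>
    hv (by rw [map_prod]; exact Finset.prod_eq_zero (Finset.mem_univ i) h0)
  refine (hL' i _ (hv' i)).subset fun z hz β => ?_
  rw [Set.mem_setOf_eq] at hz
  rw [hz, coeff_map]

end Charts

section Free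

variable {N : ℕ} {P : Type} (Q : Finset (Fin N →₀ ℕ))

/-- The polynomial with freely varying coefficients at the monomials of `Q`. -/
noncomputable def free : MvPolynomial (Fin N) (MvPolynomial (P ⊕ ↥Q) k) :=
  ∑ β : ↥Q, monomial β.1 (X (Sum.inr β))

theorem map_free (z : P ⊕ ↥Q → k) :
    MvPolynomial.map (eval z) (free (k := k) (P := P) Q) = ∑ β : ↥Q, monomial β.1 (z (Sum.inr β)) := by
  simp [free, map_monomial]

theorem sum_coeff_eq {M S : Finset (Fin N →₀ ℕ)} (hS : S ⊆ M) {f : MvPolynomial (Fin N) k}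
    (hf : f.support ⊆ M) :
    f = (∑ β : ↥(M \ S), monomial β.1 (coeff β.1 f)) + ∑ β ∈ S, monomial β (coeff β f) := by
  classical
  rw [Finset.sum_coe_sort (M \ S) (fun β => monomial β (coeff β f)), Finset.sum_sdiff hS]
  conv_lhs => rw [f.as_sum]
  exact Finset.sum_subset hf fun β _ hb => by rw [notMem_support_iff.1 hb, map_zero]

end Free

theorem forms_support {n d : ℕ} (f : MvPolynomial (Fin (n + 1)) k) (hf : f.IsHomogeneous d) :
    f.support ⊆ (Finset.univ : Finset (Fin (n + 1))).finsuppAntidiag d := by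
  intro β hβ
  rw [Finset.mem_finsuppAntidiag]
  refine ⟨?_, Finset.subset_univ _⟩
  have := hf (mem_support_iff.1 hβ)
  rw [← this, Finsupp.weight_apply, Finsupp.sum_fintype _ _ (fun i => by simp)]
  simp

theorem isHomogeneous_of_mem {n d : ℕ} {β : Fin (n + 1) →₀ ℕ}
    (hβ : β ∈ (Finset.univ : Finset (Fin (n + 1))).finsuppAntidiag d) :
    (monomial β (1 : k)).IsHomogeneous d := by
  refine isHomogeneous_monomial _ ?_
  rw [Finset.mem_finsuppAntidiag] at hβ
  rw [← hβ.1, Finsupp.degree_eq_sum]

end Groth.Agent.GenDim
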