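import Mathlib
import Groth.Agent.GenDim.Planes

/-!
# A general hypersurface through a linear subspace is smooth
-/

set_option autoImplicit false
universe u

namespace Groth.Agent.GenDim

open MvPolynomial

variable {k : Type u} [Field k]

theorem pderiv_map' {σ : Type} {R S : Type*} [CommRing R] [CommRing S] (f : R →+* S) (i : σ)
    (p : MvPolynomial σ R) : pderiv i (MvPolynomial.map f p) = MvPolynomial.map f (pderiv i p) := by
  classical
  induction p using MvPolynomial.induction_on with
  | C a => simp
  | add p q hp hq => simp only [map_add, hp, hq]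
  | mul_X p j hp =>
    simp only [map_mul, map_X, pderiv_mul, map_add, hp, pderiv_X]
    congr 1
    by_cases h : j = i
    · subst h; simp
    · simp [Pi.single_eq_of_ne h]

/-- The monomial `X j ^ e * X i`. -/
noncomputable def cor {N : ℕ} (e : ℕ) (j i : Fin N) : Fin N →₀ ℕ :=
  Finsupp.single j e + Finsupp.single i 1

theorem cor_injective {N : ℕ} (e : ℕ) (j : Fin N) : Function.Injective (cor e j) := fun a b h => by
  have := add_left_cancel h
  exact Finsupp.single_left_injective one_ne_zero this

theorem monomial_cor {N : ℕ} (e : ℕ) (j i : Fin N) (a : k) :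
    monomial (cor e j i) a = C a * X j ^ e * X i := by
  rw [cor, X_pow_eq_monomial, mul_assoc, X, monomial_mul, C_mul_monomial, mul_one, mul_one]

theorem eval_monomial_cor {N : ℕ} (e : ℕ) (j i : Fin N) (a : k) (v : Fin N → k) (hj : v j = 1) :
    eval v (monomial (cor e j i) a) = a * v i := by
  simp [monomial_cor, hj]

theorem eval_pderiv_monomial_cor {N : ℕ} (e : ℕ) (j i l : Fin N) (hl : l ≠ j) (a : k) (v : Fin N → k)
    (hj : v j = 1) : eval v (pderiv l (monomial (cor e j i) a)) = if i = l then a else 0 := by
  classical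
  rw [monomial_cor, mul_assoc, pderiv_C_mul, pderiv_mul, pderiv_pow, pderiv_X_of_ne hl.symm]
  rcases eq_or_ne i l with rfl | hil
  · simp [hj]
  · simp [pderiv_X_of_ne hil, hil]

variable (n d r : ℕ)

/-- Exponents of degree `d` involving a coordinate `≥ r`. -/
noncomputable def mons : Finset (Fin (n + 1) →₀ ℕ) :=
  (allMons n d).filter fun β => ∃ i : Fin (n + 1), r ≤ (i : ℕ) ∧ β i ≠ 0

theorem cor_mem {j i : Fin (n + 1)} (hd : 2 ≤ d) (h : r ≤ (j : ℕ) ∨ r ≤ (i : ℕ)) :
    cor (d - 1) j i ∈ mons n d r := by
  classical
  rw [mons, Finset.mem_filter, Finset.mem_finsuppAntidiag]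
  refine ⟨⟨?_, Finset.subset_univ _⟩, ?_⟩
  · rw [cor, ← Finsupp.degree_eq_sum, map_add, Finsupp.degree_single, Finsupp.degree_single]
    omega
  · rcases h with h | h
    · refine ⟨j, h, ?_⟩
      simp only [cor, Finsupp.add_apply, Finsupp.single_eq_same]
      omega
    · refine ⟨i, h, ?_⟩
      simp [cor]

/-- Substitution of the affine chart at `j`. -/
noncomputable def pt {τ : Type} (j : Fin (n + 1)) (F : Finset (Fin (n + 1))) (ι : ↥F → τ) (l : Fin (n + 1)) :
    MvPolynomial τ k :=
  if l = j then 1 else if h : l ∈ F then X (ι ⟨l, h⟩) else 0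

/-- Coordinates moved along, at the point `j` in the given region. -/
noncomputable def vars (j : Fin (n + 1)) (top : Bool) : Finset (Fin (n + 1)) :=
  if top then Finset.univ.erase j else (Finset.univ.filter fun i : Fin (n + 1) => (i : ℕ) < r).erase j

/-- Indices of the corrected monomials. -/
noncomputable def fixd (top : Bool) : Finset (Fin (n + 1)) :=
  if top then Finset.univ else Finset.univ.filter fun i : Fin (n + 1) => r ≤ (i : ℕ)

/-- The charts. -/
abbrev Chart : Type := {p : Fin (n + 1) × Bool // p.2 = true → r ≤ (p.1 : ℕ)}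

/-- The corrected monomials of a chart. -/
noncomputable def corr (c : Chart n r) : Finset (Fin (n + 1) →₀ ℕ) := by
  classical
  exact (fixd n r c.1.2).image (cor (d - 1) c.1.1)

/-- The parameters of a chart. -/
abbrev SPar (c : Chart n r) : Type := ↥(vars n r c.1.1 c.1.2) ⊕ ↥(mons n d r \ corr n d r c)

theorem corr_subset (hd : 2 ≤ d) (c : Chart n r) : corr n d r c ⊆ mons n d r := by
  classical
  intro β hβ
  simp only [corr, Finset.mem_image] at hβ
  obtain ⟨i, hi, rfl⟩ := hβ
  refine cor_mem n d r hd ?_
  cases hb : c.1.2 with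
  | true => exact Or.inl (c.2 hb)
  | false => rw [hb] at hi; simp [fixd] at hi; exact Or.inr hi

theorem card_spar (hd : 2 ≤ d) (hr : 2 * r ≤ n + 1) (c : Chart n r) (hc : c.1.2 = false → (c.1.1 : ℕ) < r) :
    Fintype.card (SPar n d r c) < (mons n d r).card := by
  classical
  have h1 : (corr n d r c).card = (fixd n r c.1.2).card :=
    Finset.card_image_of_injective _ (cor_injective _ _)
  have h2 := Finset.card_le_card (corr_subset n d r hd c)
  rw [Fintype.card_sum, Fintype.card_coe, Fintype.card_coe, Finset.card_sdiff_of_subset (corr_subset n d r hd c)]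
  suffices (vars n r c.1.1 c.1.2).card < (fixd n r c.1.2).card by omega
  cases hb : c.1.2 with
  | true => simp [vars, fixd, Finset.card_erase_of_mem]
  | false =>
    have hj := hc hb
    simp only [vars, fixd, Bool.false_eq_true, if_false]
    rw [Finset.card_erase_of_mem (by simp [hj]), Fin.card_filter_val_lt]
    have h3 := Finset.card_filter_add_card_filter_not (s := (Finset.univ : Finset (Fin (n + 1))))
      (fun i : Fin (n + 1) => (i : ℕ) < r)
    rw [Fin.card_filter_val_lt, Finset.card_univ, Fintype.card_fin] at h3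
    have h4 : (Finset.univ.filter fun i : Fin (n + 1) => r ≤ (i : ℕ)) =
        Finset.univ.filter fun i : Fin (n + 1) => ¬ (i : ℕ) < r := by
      ext; simp
    rw [h4]
    omega

variable {n d r}

/-- The generic point of a chart. -/
noncomputable def gpt (c : Chart n r) : Fin (n + 1) → MvPolynomial (SPar n d r c) k :=
  pt n c.1.1 (vars n r c.1.1 c.1.2) Sum.inl

/-- The correction at `i`. -/
noncomputable def amt (c : Chart n r) (i : Fin (n + 1)) : MvPolynomial (SPar n d r c) k :=
  let F := free (k := k) (P := ↥(vars n r c.1.1 c.1.2)) (mons n d r \ corr n d r c)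
  if i = c.1.1 then
    -eval (gpt c) F + ∑ l ∈ (fixd n r c.1.2).erase c.1.1, eval (gpt c) (pderiv l F) * gpt c l
  else -eval (gpt c) (pderiv i F)

/-- The generic singular form of a chart. -/
noncomputable def sgen (c : Chart n r) : MvPolynomial (Fin (n + 1)) (MvPolynomial (SPar n d r c) k) :=
  free (mons n d r \ corr n d r c) + ∑ i ∈ fixd n r c.1.2, monomial (cor (d - 1) c.1.1 i) (amt c i)

theorem exists_sparam (hd : 2 ≤ d) (f : MvPolynomial (Fin (n + 1)) k) (hf : f.support ⊆ mons n d r)
    (c : Chart n r) (v : Fin (n + 1) → k) (hvj : v c.1.1 = 1)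
    (hv : c.1.2 = false → ∀ l : Fin (n + 1), r ≤ (l : ℕ) → v l = 0)
    (hcj : c.1.2 = false → (c.1.1 : ℕ) < r)
    (h0 : eval v f = 0) (h1 : ∀ l, eval v (pderiv l f) = 0) :
    ∃ z : SPar n d r c → k, f = MvPolynomial.map (eval z) (sgen c) := by
  classical
  let z : SPar n d r c → k := Sum.elim (fun l => v l.1) (fun β => coeff β.1 f)
  refine ⟨z, ?_⟩
  have hgpt : (fun l => eval z (gpt (k := k) (d := d) c l)) = v := by
    funext l
    simp only [gpt, pt]
    split_ifs with h h'
    · subst h; rw [map_one, hvj]
    · simp [z]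
    · rw [map_zero]
      cases hb : c.1.2 with
      | true => simp [vars, hb, h] at h'
      | false =>
        refine (hv hb l ?_).symm
        simp [vars, hb, h] at h'
        exact h'
  have hsplit := sum_coeff_eq (corr_subset n d r hd c) hf
  set G₀ := ∑ β : ↥(mons n d r \ corr n d r c), monomial β.1 (coeff β.1 f) with hG₀
  have hfree : MvPolynomial.map (eval z) (free (k := k) (mons n d r \ corr n d r c)) = G₀ := by
    rw [map_free]; rfl
  clear_value G₀
  rw [corr, Finset.sum_image fun a _ b _ hab => cor_injective _ _ hab] at hsplit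
  set T := fixd n r c.1.2 with hT
  set b : Fin (n + 1) → k := fun i => coeff (cor (d - 1) c.1.1 i) f with hb
  have hev : eval v f = eval v G₀ + ∑ i ∈ T, b i * v i := by
    conv_lhs => rw [hsplit]
    rw [map_add, map_sum]
    exact congrArg _ (Finset.sum_congr rfl fun i _ => eval_monomial_cor _ _ _ _ _ hvj)
  have hder : ∀ l ∈ T, l ≠ c.1.1 → b l = -eval v (pderiv l G₀) := by
    intro l hl hlj
    have := h1 l
    rw [hsplit, map_add, map_add, map_sum, map_sum,
      Finset.sum_eq_single l (fun i _ hi => by rw [eval_pderiv_monomial_cor _ _ _ _ hlj _ _ hvj, if_neg hi])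
        (fun h => absurd hl h),
      eval_pderiv_monomial_cor _ _ _ _ hlj _ _ hvj, if_pos rfl] at this
    exact eq_neg_of_add_eq_zero_right this
  have heval : ∀ p : MvPolynomial (Fin (n + 1)) (MvPolynomial (SPar n d r c) k),
      eval z (eval (gpt c) p) = eval v (MvPolynomial.map (eval z) p) := by
    intro p
    rw [eval_map, ← hgpt]
    induction p using MvPolynomial.induction_on with
    | C a => simp
    | add p q hp hq => simp only [map_add, eval₂_add, hp, hq]
    | mul_X p i hp => simp only [map_mul, eval₂_mul, eval₂_X, hp, eval_X]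
  have hamt : ∀ i ∈ T, eval z (amt c i) = b i := by
    intro i hi
    unfold amt
    simp only
    split_ifs with hij
    · rw [map_add, map_neg, heval, hfree, map_sum]
      have h2 : eval v f = 0 := h0
      rw [hev, ← Finset.add_sum_erase _ _ hi, hij, hvj, mul_one] at h2
      have h3 : ∀ l ∈ T.erase c.1.1, eval z (eval (gpt c) (pderiv l (free (k := k)
          (mons n d r \ corr n d r c))) * gpt c l) = -(b l * v l) := by
        intro l hl
        rw [Finset.mem_erase] at hl
        rw [map_mul, heval, ← pderiv_map', hfree, congrFun hgpt l, hder l hl.2 hl.1]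
        ring
      rw [Finset.sum_congr rfl h3, Finset.sum_neg_distrib, hij]
      linear_combination -h2
    · rw [map_neg, heval, ← pderiv_map', hfree, hder i hi hij]
  unfold sgen
  rw [map_add, hfree, map_sum]
  conv_lhs => rw [hsplit]
  exact congrArg _ (Finset.sum_congr rfl fun i hi => by rw [map_monomial, hamt i hi])

end Groth.Agent.GenDim
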