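import Mathlib
import Groth.Agent.GenDim.Smooth
import Groth.Agent.BinForm.Basic

/-!
# The discriminant of forms of degree `d`
-/

set_option autoImplicit false
universe u

namespace Groth.Agent.GenDim

open MvPolynomial

variable {k : Type u} [Field k] {n d : ℕ}

theorem mons_zero (hd : 1 ≤ d) : mons n d 0 = allMons n d := by
  classical
  rw [mons, Finset.filter_eq_self]
  intro β hβ
  by_contra hcon
  push Not at hcon
  rw [Finset.mem_finsuppAntidiag] at hβ
  have : ∑ i, β i = 0 := Finset.sum_eq_zero fun i _ => hcon i (Nat.zero_le _)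
  exact absurd (hβ.1.symm.trans this) (by omega)

/-- Singularity. -/
def IsSing (G : MvPolynomial (Fin (n + 1)) k) : Prop :=
  ∃ v : Fin (n + 1) → k, v ≠ 0 ∧ eval v G = 0 ∧ ∀ i, eval v (pderiv i G) = 0

/-- The chart at the coordinate `j`. -/
def ch (j : Fin (n + 1)) : Chart n 0 := ⟨(j, true), fun _ => Nat.zero_le _⟩

/-- The parametrised coefficients. -/
noncomputable def φ (d : ℕ) (j : Fin (n + 1)) (β : Fin (n + 1) →₀ ℕ) :
    MvPolynomial (SPar n d 0 (ch j)) k :=
  coeff β (sgen (ch j))

theorem isHomogeneous_of_support {f : MvPolynomial (Fin (n + 1)) k} (h : f.support ⊆ allMons n d) :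
    f.IsHomogeneous d := by
  intro β hβ
  have := h (mem_support_iff.2 hβ)
  rw [Finset.mem_finsuppAntidiag] at this
  rw [Finsupp.weight_apply, ← this.1, Finsupp.sum_fintype _ _ (fun i => by simp)]
  simp

theorem support_map_sgen (hd : 2 ≤ d) (c : Chart n 0) (z : SPar n d 0 c → k) :
    (MvPolynomial.map (eval z) (sgen c)).support ⊆ allMons n d := by
  classical
  refine (support_map_subset _ _).trans ?_
  unfold sgen free
  refine (support_add.trans (Finset.union_subset ?_ ?_))
  · refine Finset.Subset.trans support_sum (Finset.biUnion_subset.2 fun β _ => support_monomial_subset.trans ?_)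
    rw [Finset.singleton_subset_iff]
    exact (mons_zero (by omega : 1 ≤ d)) ▸ (Finset.mem_sdiff.1 β.2).1
  · refine Finset.Subset.trans support_sum (Finset.biUnion_subset.2 fun i hi => support_monomial_subset.trans ?_)
    rw [Finset.singleton_subset_iff]
    exact (mons_zero (by omega : 1 ≤ d)) ▸ cor_mem n d 0 hd (Or.inl (Nat.zero_le _))

/-- The point of a parameter. -/
noncomputable def zpt (j : Fin (n + 1)) (z : SPar n d 0 (ch j) → k) : Fin (n + 1) → k :=
  fun l => eval z (gpt (ch j) l)

theorem zpt_self (j : Fin (n + 1)) (z : SPar n d 0 (ch j) → k) : zpt j z j = 1 := by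
  show eval z (gpt (ch j) j) = 1
  rw [gpt, pt, if_pos (by simp [ch]), map_one]

theorem isSing_at (hd : 2 ≤ d) (j : Fin (n + 1)) (z : SPar n d 0 (ch j) → k) :
    eval (zpt j z) (MvPolynomial.map (eval z) (sgen (ch j))) = 0 ∧
      ∀ i, eval (zpt j z) (pderiv i (MvPolynomial.map (eval z) (sgen (ch j)))) = 0 := by
  classical
  set G := MvPolynomial.map (eval z) (sgen (ch j)) with hG
  set v := zpt j z with hv
  have hvj : v j = 1 := zpt_self j z
  set Q := mons n d 0 \ corr n d 0 (ch j)
  set G₀ := MvPolynomial.map (eval z) (free (k := k) (P := ↥(vars n 0 (ch j).1.1 (ch j).1.2)) Q) with hG₀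
  have heval : ∀ p : MvPolynomial (Fin (n + 1)) (MvPolynomial (SPar n d 0 (ch j)) k),
      eval z (eval (gpt (ch j)) p) = eval v (MvPolynomial.map (eval z) p) := by
    intro p
    rw [eval_map]
    induction p using MvPolynomial.induction_on with
    | C a => simp
    | add p q hp hq => simp only [map_add, eval₂_add, hp, hq]
    | mul_X p i hp => simp only [map_mul, eval₂_mul, eval₂_X, hp, eval_X]; rfl
  have hGeq : G = G₀ + ∑ i : Fin (n + 1), monomial (cor (d - 1) j i) (eval z (amt (ch j) i)) := by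
    rw [hG, sgen, map_add, map_sum, ← hG₀]
    refine congrArg (G₀ + ·) (Finset.sum_congr (by simp [fixd, ch]) fun i _ => ?_)
    exact map_monomial _ _ _
  have hb : ∀ i, i ≠ j → eval z (amt (ch j) i) = -eval v (pderiv i G₀) := fun i hi => by
    unfold amt
    simp only
    rw [if_neg (by simpa [ch] using hi), map_neg, heval, ← pderiv_map']
  have ha : eval z (amt (ch j) j) = -eval v G₀ + ∑ l ∈ Finset.univ.erase j, eval v (pderiv l G₀) * v l := by
    unfold amt
    simp only
    rw [if_pos (by simp [ch]), map_add, map_neg, heval, map_sum]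
    refine congrArg (-eval v G₀ + ·) (Finset.sum_congr (by simp [fixd, ch]) fun l _ => ?_)
    rw [map_mul, heval, ← pderiv_map']
    rfl
  have hder : ∀ l, l ≠ j → eval v (pderiv l G) = 0 := by
    intro l hl
    rw [hGeq, map_add, map_add, map_sum, map_sum,
      Finset.sum_eq_single l (fun i _ hi => by rw [eval_pderiv_monomial_cor _ _ _ _ hl _ _ hvj, if_neg hi])
        (fun h => absurd (Finset.mem_univ _) h),
      eval_pderiv_monomial_cor _ _ _ _ hl _ _ hvj, if_pos rfl, hb l hl, add_neg_cancel]
  have hval : eval v G = 0 := by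
    rw [hGeq, map_add, map_sum, Finset.sum_congr rfl fun i _ => eval_monomial_cor _ _ _ _ _ hvj,
      ← Finset.add_sum_erase _ _ (Finset.mem_univ j)]
    have hs : ∑ i ∈ Finset.univ.erase j, eval z (amt (ch j) i) * v i =
        -∑ l ∈ Finset.univ.erase j, eval v (pderiv l G₀) * v l := by
      rw [← Finset.sum_neg_distrib]
      exact Finset.sum_congr rfl fun i hi => by rw [hb i (Finset.ne_of_mem_erase hi), neg_mul]
    rw [hs, ha, hvj, mul_one]
    ring
  refine ⟨hval, fun i => ?_⟩
  by_cases hi : i = j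
  · subst hi
    have hE := congrArg (eval v) (isHomogeneous_of_support (support_map_sgen hd _ z)).sum_X_mul_pderiv
    rw [map_sum, nsmul_eq_mul, map_mul, ← hG, hval, mul_zero] at hE
    rw [← hG] at *
    simp only [map_mul, eval_X] at hE
    rw [← Finset.add_sum_erase _ _ (Finset.mem_univ i), hvj, one_mul,
      Finset.sum_eq_zero fun l hl => by rw [hder l (Finset.ne_of_mem_erase hl), mul_zero], add_zero] at hE
    exact hE
  · exact hder i hi

theorem isSing_map_sgen (hd : 2 ≤ d) (j : Fin (n + 1)) (z : SPar n d 0 (ch j) → k) :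
    IsSing (MvPolynomial.map (eval z) (sgen (ch j))) :=
  ⟨zpt j z, fun h => one_ne_zero (α := k) (by rw [← zpt_self j z, h]; rfl), (isSing_at hd j z).1, (isSing_at hd j z).2⟩

theorem exists_z_of_isSing (hd : 2 ≤ d) (G : MvPolynomial (Fin (n + 1)) k) (hG : G.IsHomogeneous d)
    (v : Fin (n + 1) → k) (h0 : eval v G = 0) (h1 : ∀ i, eval v (pderiv i G) = 0)
    (j : Fin (n + 1)) (hj : v j ≠ 0) :
    ∃ z : SPar n d 0 (ch j) → k, G = MvPolynomial.map (eval z) (sgen (ch j)) := by
  refine exists_sparam hd G ((mons_zero (by omega : 1 ≤ d)).symm ▸ forms_support G hG) (ch j) ((v j)⁻¹ • v)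
    (by simp [ch, hj]) (fun h => nomatch h) (fun h => nomatch h) ?_ fun l => ?_
  · rw [BinForm.eval_smul_of_homogeneous hG, h0, mul_zero]
  · rw [BinForm.eval_smul_of_homogeneous hG.pderiv, h1 l, mul_zero]

theorem coeff_map_sgen (j : Fin (n + 1)) (z : SPar n d 0 (ch j) → k) (β : Fin (n + 1) →₀ ℕ) :
    coeff β (MvPolynomial.map (eval z) (sgen (ch j))) = eval z (φ d j β) := by
  rw [coeff_map]; rfl

/-- The ideal of relations among the coefficients of singular forms. -/
noncomputable def relIdeal (k : Type u) [Field k] (n d : ℕ) : Ideal (MvPolynomial ↥(allMons n d) k) :=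
  RingHom.ker (aeval fun β : ↥(allMons n d) => φ (k := k) d (0 : Fin (n + 1)) β.1)

set_option maxHeartbeats 1000000 in
theorem eval_eq_zero_of_mem [IsAlgClosed k] (hd : 2 ≤ d) (f : MvPolynomial ↥(allMons n d) k)
    (hf : f ∈ relIdeal k n d) (G : MvPolynomial (Fin (n + 1)) k) (hG : G.IsHomogeneous d) (hs : IsSing G) :
    eval (fun β : ↥(allMons n d) => coeff β.1 G) f = 0 := by
  classical
  rw [relIdeal, RingHom.mem_ker] at hf
  have h00 : ∀ (H : MvPolynomial (Fin (n + 1)) k), H.IsHomogeneous d → ∀ (w : Fin (n + 1) → k),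
      eval w H = 0 → (∀ i, eval w (pderiv i H) = 0) → w 0 ≠ 0 →
      eval (fun β : ↥(allMons n d) => coeff β.1 H) f = 0 := by
    intro H hH w hw hw' hw0
    obtain ⟨z, hz⟩ := exists_z_of_isSing hd H hH w hw hw' 0 hw0
    have := congrArg (eval z) hf
    rw [eval_aeval, map_zero] at this
    rw [← this]
    congr 2
    funext β
    rw [hz, coeff_map_sgen]
  obtain ⟨v, hv, h0, h1⟩ := hs
  obtain ⟨j, hj⟩ := Function.ne_iff.1 hv
  by_cases hv0 : v 0 ≠ 0
  · exact h00 G hG v h0 h1 hv0
  push Not at hv0
  have hj0 : j ≠ 0 := by rintro rfl; exact hj hv0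
  obtain ⟨z, hz⟩ := exists_z_of_isSing hd G hG v h0 h1 j hj
  let x : SPar n d 0 (ch j) := Sum.inl ⟨0, by simp [vars, ch, hj0.symm]⟩
  have hprod : (X x : MvPolynomial (SPar n d 0 (ch j)) k) *
      aeval (fun β : ↥(allMons n d) => φ (k := k) d j β.1) f = 0 := by
    refine MvPolynomial.funext fun y => ?_
    rw [map_mul, eval_X, map_zero]
    by_cases hy : y x = 0
    · rw [hy, zero_mul]
    obtain ⟨w, hw0, hw, hw'⟩ : ∃ w : Fin (n + 1) → k, w 0 ≠ 0 ∧
        eval w (MvPolynomial.map (eval y) (sgen (ch j))) = 0 ∧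
        ∀ i, eval w (pderiv i (MvPolynomial.map (eval y) (sgen (ch j)))) = 0 := by
      refine ⟨zpt j y, ?_, ?_, ?_⟩
      · have : zpt j y 0 = y x := by
          simp only [zpt, gpt, pt]
          rw [if_neg (by simpa [ch] using hj0.symm), dif_pos (by simp [vars, ch, hj0.symm]), eval_X]
        rw [this]; exact hy
      · exact (isSing_at hd j y).1
      · exact (isSing_at hd j y).2
    have := h00 _ (isHomogeneous_of_support (support_map_sgen hd _ y)) w hw hw' hw0
    rw [eval_aeval]
    rw [mul_eq_zero]; right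
    rw [← this]
    congr 2
  have := congrArg (eval z) ((mul_eq_zero.1 hprod).resolve_left (X_ne_zero x))
  rw [eval_aeval, map_zero] at this
  rw [← this]
  congr 2
  funext β
  rw [hz, coeff_map_sgen]

end Groth.Agent.GenDim
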