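import Mathlib

/-!
# Relation ideals of codimension one
-/

set_option autoImplicit false
universe u

namespace Groth.Agent.GenDim

open MvPolynomial

variable {k : Type u} [Field k]

/-- A polynomial family which is surjective after specialising the parameters is independent over them. -/
theorem indep_of_surjective [Infinite k] {Y ξ κ : Type} (O : Y → MvPolynomial (ξ ⊕ κ) k) (c₀ : κ → k)
    (h : ∀ y : Y → k, ∃ x : ξ → k, ∀ i, eval (Sum.elim x c₀) (O i) = y i) :
    AlgebraicIndependent k (Sum.elim O (fun c => (X (Sum.inr c) : MvPolynomial (ξ ⊕ κ) k))) := by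
  classical
  rw [algebraicIndependent_iff]
  intro F hF
  by_contra hne
  obtain ⟨w, hw⟩ : ∃ w : Y ⊕ κ → k, eval w F ≠ 0 := by
    by_contra hc
    push Not at hc
    exact hne (MvPolynomial.funext fun x => by rw [hc x, map_zero])
  let δ : κ → k := fun c => w (Sum.inr c) - c₀ c
  let f : Polynomial (MvPolynomial Y k) := aeval (Sum.elim (fun y => Polynomial.C (X y))
    (fun c => Polynomial.C (C (c₀ c)) + Polynomial.X * Polynomial.C (C (δ c)))) F
  have hf : f ≠ 0 := by
    intro hf
    apply hw
    have hcomp : ∀ G : MvPolynomial (Y ⊕ κ) k, eval w G =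
        (eval (fun y => w (Sum.inl y))) (Polynomial.eval 1 (aeval (Sum.elim (fun y => Polynomial.C (X y))
          (fun c => Polynomial.C (C (c₀ c)) + Polynomial.X * Polynomial.C (C (δ c)))) G)) := by
      intro G
      induction G using MvPolynomial.induction_on with
      | C a =>
        rw [aeval_C, Polynomial.algebraMap_apply, Polynomial.eval_C, eval_C, algebraMap_eq, eval_C]
      | add p q hp hq => simp only [map_add, Polynomial.eval_add, hp, hq]
      | mul_X p i hp =>
        simp only [map_mul, Polynomial.eval_mul, hp, eval_X, aeval_X]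
        congr 1
        cases i with
        | inl y => simp
        | inr c => simp [δ]
    rw [hcomp F]
    show (eval _) (Polynomial.eval 1 f) = 0
    rw [hf, Polynomial.eval_zero, map_zero]
  obtain ⟨g, hg, hg0⟩ := Polynomial.exists_eq_pow_rootMultiplicity_mul_and_not_dvd f hf 0
  rw [map_zero, sub_zero] at hg hg0
  rw [Polynomial.X_dvd_iff] at hg0
  obtain ⟨y, hy⟩ : ∃ y : Y → k, eval y (g.coeff 0) ≠ 0 := by
    by_contra hc
    push Not at hc
    exact hg0 (MvPolynomial.funext fun x => by rw [hc x, map_zero])
  obtain ⟨x, hx⟩ := h y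
  let L : MvPolynomial (ξ ⊕ κ) k →ₐ[k] Polynomial k := aeval (Sum.elim (fun i => Polynomial.C (x i))
    (fun c => Polynomial.C (c₀ c) + Polynomial.X * Polynomial.C (δ c)))
  let ψ : MvPolynomial Y k →ₐ[k] Polynomial k := aeval fun i => L (O i)
  have hψ0 : ∀ p, (ψ p).coeff 0 = eval y p := by
    intro p
    have hL : ∀ P : MvPolynomial (ξ ⊕ κ) k, (L P).coeff 0 = eval (Sum.elim x c₀) P := by
      intro P
      induction P using MvPolynomial.induction_on with
      | C a => simp [L]
      | add p q hp hq => simp only [map_add, Polynomial.coeff_add, hp, hq]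
      | mul_X p i hp =>
        simp only [map_mul, Polynomial.mul_coeff_zero, hp, eval_X]
        cases i <;> simp [L]
    induction p using MvPolynomial.induction_on with
    | C a => simp [ψ]
    | add p q hp hq => simp only [map_add, Polynomial.coeff_add, hp, hq]
    | mul_X p i hp =>
      simp only [map_mul, Polynomial.mul_coeff_zero, hp, eval_X]
      rw [show ψ (X i) = L (O i) from aeval_X _ _, hL, hx]
  have hzero : f.eval₂ ψ.toRingHom Polynomial.X = 0 := by
    have hcomp : ∀ G : MvPolynomial (Y ⊕ κ) k, (aeval (Sum.elim (fun y => Polynomial.C (X y))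
          (fun c => Polynomial.C (C (c₀ c)) + Polynomial.X * Polynomial.C (C (δ c)))) G).eval₂
            ψ.toRingHom Polynomial.X =
        L (aeval (Sum.elim O (fun c => (X (Sum.inr c) : MvPolynomial (ξ ⊕ κ) k))) G) := by
      intro G
      induction G using MvPolynomial.induction_on with
      | C a => simp [ψ, L]
      | add p q hp hq => simp only [map_add, Polynomial.eval₂_add, hp, hq]
      | mul_X p i hp =>
        simp only [map_mul, Polynomial.eval₂_mul, hp, aeval_X]
        congr 1
        cases i with
        | inl i => simp [ψ]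
        | inr c => simp [ψ, L]
    show Polynomial.eval₂ ψ.toRingHom Polynomial.X f = 0
    rw [hcomp F, hF, map_zero]
  rw [hg, Polynomial.eval₂_mul, Polynomial.eval₂_X_pow] at hzero
  have := (mul_eq_zero.1 hzero).resolve_left (pow_ne_zero _ Polynomial.X_ne_zero)
  apply hy
  have h2 := congrArg (fun p => Polynomial.coeff p 0) this
  simp only [Polynomial.coeff_zero_eq_eval_zero] at h2
  rw [← hψ0, Polynomial.coeff_zero_eq_eval_zero]
  rw [← Polynomial.coe_evalRingHom, Polynomial.hom_eval₂, Polynomial.coe_evalRingHom, Polynomial.eval_X,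
    Polynomial.eval₂_at_zero, Polynomial.eval_zero] at h2
  exact h2

theorem dvd_of_root' {A K L : Type*} [CommRing A] [IsDomain A] [IsGCDMonoid A] [Field K] [Algebra A K]
    [IsFractionRing A K] [Field L] (β : A →+* L) (hβ : Function.Injective β) (b : L) (r q : Polynomial A)
    (hirr : Irreducible r) (hr : r.eval₂ β b = 0) (hq : q.eval₂ β b = 0) : r ∣ q := by
  have hdeg : r.natDegree ≠ 0 := by
    intro h0
    rw [Polynomial.natDegree_eq_zero] at h0
    obtain ⟨a, rfl⟩ := h0
    rw [Polynomial.eval₂_C] at hr
    exact hirr.ne_zero (by rw [hβ (hr.trans (map_zero β).symm), map_zero])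
  have hprim : r.IsPrimitive := hirr.isPrimitive hdeg
  let : Algebra K L := (IsFractionRing.lift hβ).toAlgebra
  have hc : (algebraMap K L).comp (algebraMap A K) = β :=
    RingHom.ext fun a => IsFractionRing.lift_algebraMap hβ a
  have hx : ∀ p : Polynomial A, p.eval₂ β b = 0 → Polynomial.aeval b (p.map (algebraMap A K)) = 0 := by
    intro p hp
    rw [Polynomial.aeval_def, Polynomial.eval₂_map, hc, hp]
  refine hprim.dvd_of_fraction_map_dvd_fraction_map (K := K) ?_
  have hirr' := (hprim.irreducible_iff_irreducible_map_fraction_map (K := K)).1 hirr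
  exact ((hirr'.dvd_iff.1 (minpoly.dvd K b (hx r hr))).resolve_left (minpoly.not_isUnit K b)).dvd.trans
    (minpoly.dvd K b (hx q hq))

/-- An irreducible polynomial divides every polynomial with the same root. -/
theorem dvd_of_root {A B : Type*} [CommRing A] [IsDomain A] [IsGCDMonoid A] [CommRing B] [IsDomain B]
    (α : A →+* B) (hα : Function.Injective α) (b : B) (r q : Polynomial A) (hirr : Irreducible r)
    (hr : r.eval₂ α b = 0) (hq : q.eval₂ α b = 0) : r ∣ q := by
  refine dvd_of_root' (K := FractionRing A) ((algebraMap B (FractionRing B)).comp α)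
    ((IsFractionRing.injective B (FractionRing B)).comp hα) (algebraMap B (FractionRing B) b) r q hirr ?_ ?_
  · rw [← Polynomial.hom_eval₂, hr, map_zero]
  · rw [← Polynomial.hom_eval₂, hq, map_zero]

/-- The relations of a family with one dependent member form a principal prime ideal. -/
theorem principal_of_indep {σ τ : Type} {B : Type u} [CommRing B] [IsDomain B] [Algebra k B]
    (φ : σ → B) (e : σ ≃ Option τ) (hind : AlgebraicIndependent k fun t : τ => φ (e.symm (some t)))
    (hrel : ∃ P : MvPolynomial σ k, P ≠ 0 ∧ aeval φ P = 0) :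
    ∃ R : MvPolynomial σ k, Irreducible R ∧ ∀ Q : MvPolynomial σ k, aeval φ Q = 0 ↔ R ∣ Q := by
  classical
  have hprime : (RingHom.ker (aeval φ : MvPolynomial σ k →ₐ[k] B)).IsPrime := RingHom.ker_isPrime _
  have hne : RingHom.ker (aeval φ : MvPolynomial σ k →ₐ[k] B) ≠ ⊥ := by
    obtain ⟨P, h1, h2⟩ := hrel
    exact fun h => h1 (by rw [← Ideal.mem_bot, ← h]; exact h2)
  obtain ⟨R, hR, hRp⟩ := hprime.exists_mem_prime_of_ne_bot hne
  rw [RingHom.mem_ker] at hR
  refine ⟨R, hRp.irreducible, fun Q => ⟨fun hQ => ?_, fun ⟨c, hc⟩ => by rw [hc, map_mul, hR, zero_mul]⟩⟩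
  let E : MvPolynomial σ k ≃ₐ[k] Polynomial (MvPolynomial τ k) :=
    (renameEquiv k e).trans (optionEquivLeft k τ)
  let α : MvPolynomial τ k →ₐ[k] B := aeval fun t => φ (e.symm (some t))
  have hα : Function.Injective α := hind
  let b : B := φ (e.symm none)
  have hE : ∀ P, (E P).eval₂ α.toRingHom b = aeval φ P := by
    intro P
    induction P using MvPolynomial.induction_on with
    | C a => simp [E, α]
    | add p q hp hq => simp only [map_add, Polynomial.eval₂_add, hp, hq]
    | mul_X p i hp =>
      simp only [map_mul, Polynomial.eval₂_mul, hp, aeval_X]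
      congr 1
      have : i = e.symm (e i) := (e.symm_apply_apply i).symm
      cases hi : e i with
      | none => rw [hi] at this; simp [E, hi, b, ← this]
      | some t => rw [hi] at this; simp [E, hi, α, ← this]
  have hirr : Irreducible (E R) := (MulEquiv.irreducible_iff E.toMulEquiv).2 hRp.irreducible
  exact (map_dvd_iff E).1 (dvd_of_root α.toRingHom hα b _ _ hirr (by rw [hE]; exact hR) (by rw [hE]; exact hQ))

end Groth.Agent.GenDim
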