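import Mathlib
import Groth.Agent.GenDim.Discr
import Groth.Agent.GenDim.Principal

/-!
# The discriminant has codimension one
-/

set_option autoImplicit false
universe u

namespace Groth.Agent.GenDim

open MvPolynomial

variable {k : Type u} [Field k]

/-- The auxiliary quadratic form `Y₀² + Y₀Y₁ + ⋯ + Yₘ₋₁Yₘ`. -/
noncomputable def qd : (m : ℕ) → MvPolynomial (Fin (m + 1)) k
  | 0 => X 0 ^ 2
  | m + 1 => rename Fin.castSucc (qd m) + X (Fin.castSucc (Fin.last m)) * X (Fin.last (m + 1))

theorem isHomogeneous_qd : ∀ m, (qd (k := k) m).IsHomogeneous 2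
  | 0 => isHomogeneous_X_pow 0 2
  | m + 1 => (isHomogeneous_qd m).rename_isHomogeneous.add ((isHomogeneous_X k _).mul (isHomogeneous_X k _))

theorem pderiv_qd_last (m : ℕ) :
    pderiv (Fin.last (m + 1)) (qd (k := k) (m + 1)) = X (Fin.castSucc (Fin.last m)) := by
  classical
  show pderiv _ (rename Fin.castSucc (qd m) + _) = _
  have h : pderiv (Fin.last (m + 1)) (rename Fin.castSucc (qd (k := k) m)) = 0 := by
    refine pderiv_eq_zero_of_notMem_vars fun hm => ?_
    obtain ⟨i, _, hi⟩ := Finset.mem_image.1 (vars_rename _ _ hm)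
    exact (Fin.castSucc_lt_last i).ne hi
  rw [map_add, h, zero_add, pderiv_mul, pderiv_X_self, pderiv_X_of_ne (Fin.castSucc_lt_last _).ne]
  ring

theorem pderiv_qd_castSucc (m : ℕ) (i : Fin (m + 1)) :
    pderiv (Fin.castSucc i) (qd (k := k) (m + 1)) =
      rename Fin.castSucc (pderiv i (qd m)) + if i = Fin.last m then X (Fin.last (m + 1)) else 0 := by
  classical
  show pderiv _ (rename Fin.castSucc (qd m) + _) = _
  rw [map_add, pderiv_rename (Fin.castSucc_injective _), pderiv_mul,
    pderiv_X_of_ne (Fin.castSucc_lt_last i).ne']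
  congr 1
  rw [mul_zero, add_zero]
  split_ifs with h
  · subst h; rw [pderiv_X_self, one_mul]
  · rw [pderiv_X_of_ne fun e => h (Fin.castSucc_injective _ e).symm, zero_mul]

theorem eval_pderiv_qd_line : ∀ (m : ℕ) (i : Fin (m + 1)) (a w : Fin (m + 1) → k) (s : k),
    eval (fun l => a l + s * w l) (pderiv i (qd m)) = eval a (pderiv i (qd m)) + s * eval w (pderiv i (qd m))
  | 0, i, a, w, s => by
    obtain rfl : i = 0 := Fin.fin_one_eq_zero i
    simp [qd, pderiv_pow]
    ring
  | m + 1, i, a, w, s => by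
    induction i using Fin.lastCases with
    | last => simp only [pderiv_qd_last, eval_X]
    | cast i =>
      simp only [pderiv_qd_castSucc, map_add, eval_rename]
      have := eval_pderiv_qd_line m i (a ∘ Fin.castSucc) (w ∘ Fin.castSucc) s
      rw [show (fun l => a l + s * w l) ∘ Fin.castSucc =
        fun l => (a ∘ Fin.castSucc) l + s * (w ∘ Fin.castSucc) l from rfl, this]
      split_ifs
      · simp only [eval_X]; ring
      · simp only [map_zero]; ring

theorem eval_qd_line : ∀ (m : ℕ) (a w : Fin (m + 1) → k), ∃ B : k, ∀ s : k,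
    eval (fun l => a l + s * w l) (qd m) = eval a (qd m) + s * B + s ^ 2 * eval w (qd m)
  | 0, a, w => ⟨2 * a 0 * w 0, fun s => by simp [qd]; ring⟩
  | m + 1, a, w => by
    obtain ⟨B, hB⟩ := eval_qd_line m (a ∘ Fin.castSucc) (w ∘ Fin.castSucc)
    refine ⟨B + (a (Fin.castSucc (Fin.last m)) * w (Fin.last (m + 1)) +
      w (Fin.castSucc (Fin.last m)) * a (Fin.last (m + 1))), fun s => ?_⟩
    simp only [qd, map_add, map_mul, eval_rename, eval_X]
    rw [show (fun l => a l + s * w l) ∘ Fin.castSucc =
      fun l => (a ∘ Fin.castSucc) l + s * (w ∘ Fin.castSucc) l from rfl, hB]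
    ring

theorem exists_pderiv_qd : ∀ (m : ℕ) (t : Fin m → k),
    ∃ a : Fin (m + 1) → k, ∀ i : Fin m, eval a (pderiv (Fin.castSucc i) (qd m)) = t i
  | 0, t => ⟨0, fun i => i.elim0⟩
  | m + 1, t => by
    obtain ⟨a, ha⟩ := exists_pderiv_qd m (t ∘ Fin.castSucc)
    refine ⟨Fin.snoc a (t (Fin.last m) - eval a (pderiv (Fin.last m) (qd m))), fun i => ?_⟩
    rw [pderiv_qd_castSucc, map_add, eval_rename]
    rw [show (Fin.snoc a _ : Fin (m + 2) → k) ∘ Fin.castSucc = a from funext fun l => Fin.snoc_castSucc ..]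
    induction i using Fin.lastCases with
    | last => rw [if_pos rfl, eval_X, Fin.snoc_last]; ring
    | cast i => rw [if_neg (Fin.castSucc_lt_last i).ne, map_zero, add_zero, ha]; rfl

theorem exists_kernel_qd : ∀ m : ℕ, ∃ w : Fin (m + 1) → k,
    (∀ i : Fin m, eval w (pderiv (Fin.castSucc i) (qd m)) = 0) ∧ eval w (qd m) = (-1) ^ m
  | 0 => ⟨1, fun i => i.elim0, by simp [qd]⟩
  | m + 1 => by
    obtain ⟨w, hw, hq⟩ := exists_kernel_qd m
    have hE := congrArg (eval w) (isHomogeneous_qd (k := k) m).sum_X_mul_pderiv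
    rw [map_sum, nsmul_eq_mul, map_mul, Fin.sum_univ_castSucc] at hE
    simp only [map_mul, eval_X, hw, mul_zero, Finset.sum_const_zero, zero_add, map_natCast] at hE
    refine ⟨Fin.snoc w (-eval w (pderiv (Fin.last m) (qd m))), fun i => ?_, ?_⟩
    · rw [pderiv_qd_castSucc, map_add, eval_rename]
      rw [show (Fin.snoc w _ : Fin (m + 2) → k) ∘ Fin.castSucc = w from funext fun l => Fin.snoc_castSucc ..]
      induction i using Fin.lastCases with
      | last => rw [if_pos rfl, eval_X, Fin.snoc_last]; ring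
      | cast i => rw [if_neg (Fin.castSucc_lt_last i).ne, map_zero, add_zero, hw]
    · simp only [qd, map_add, map_mul, eval_rename, eval_X, Fin.snoc_castSucc, Fin.snoc_last]
      rw [show (Fin.snoc w _ : Fin (m + 2) → k) ∘ Fin.castSucc = w from funext fun l => Fin.snoc_castSucc ..,
        hq, pow_succ]
      rw [hq] at hE
      push_cast at hE
      linear_combination -hE

theorem exists_eval_qd [IsAlgClosed k] (m : ℕ) (t : Fin m → k) (c : k) :
    ∃ y : Fin (m + 1) → k, (∀ i : Fin m, eval y (pderiv (Fin.castSucc i) (qd m)) = t i) ∧ eval y (qd m) = c := by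
  obtain ⟨a, ha⟩ := exists_pderiv_qd m t
  obtain ⟨w, hw, hq⟩ := exists_kernel_qd (k := k) m
  obtain ⟨B, hB⟩ := eval_qd_line m a w
  have hA : ((-1 : k) ^ m) ≠ 0 := pow_ne_zero _ (neg_ne_zero.2 one_ne_zero)
  obtain ⟨s, hs⟩ := IsAlgClosed.exists_root
    (Polynomial.C ((-1 : k) ^ m) * Polynomial.X ^ 2 + Polynomial.C B * Polynomial.X +
      Polynomial.C (eval a (qd m) - c)) (by rw [Polynomial.degree_quadratic hA]; decide)
  refine ⟨fun l => a l + s * w l, fun i => by rw [eval_pderiv_qd_line, ha, hw, mul_zero, add_zero], ?_⟩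
  simp only [Polynomial.IsRoot.def, Polynomial.eval_add, Polynomial.eval_mul, Polynomial.eval_C,
    Polynomial.eval_pow, Polynomial.eval_X] at hs
  rw [hB, hq]
  linear_combination hs

variable {d m : ℕ}

/-- The form used for the specialisation. -/
noncomputable def qform (d m : ℕ) : MvPolynomial (Fin (m + 1 + 1)) k :=
  X 0 ^ (d - 2) * rename Fin.succ (qd m)

theorem support_qform (hd : 2 ≤ d) :
    (qform (k := k) d m).support ⊆ mons (m + 1) d 0 \ corr (m + 1) d 0 (ch 0) := by
  classical
  intro β hβ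
  rw [Finset.mem_sdiff, mons_zero (by omega : 1 ≤ d)]
  refine ⟨forms_support _ ?_ hβ, fun hc => ?_⟩
  · have := (isHomogeneous_X_pow (R := k) (0 : Fin (m + 1 + 1)) (d - 2)).mul
      ((isHomogeneous_qd (k := k) m).rename_isHomogeneous (f := Fin.succ))
    rwa [show d - 2 + 2 = d by omega] at this
  · simp only [corr, Finset.mem_image] at hc
    obtain ⟨i, _, rfl⟩ := hc
    rw [qform, X_pow_eq_monomial] at hβ
    obtain ⟨a, ha, b, hb, hab⟩ := Finset.mem_add.1 (support_mul _ _ hβ)
    have ha' := Finset.mem_singleton.1 (support_monomial_subset ha)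
    rw [support_rename_of_injective (Fin.succ_injective _), Finset.mem_image] at hb
    obtain ⟨γ, _, rfl⟩ := hb
    have := congrArg (fun f : Fin (m + 1 + 1) →₀ ℕ => f 0) hab
    simp only [ha', ch, cor, Finsupp.add_apply, Finsupp.single_eq_same] at this
    rw [Finsupp.mapDomain_of_notMem_range _ _ (by simp)] at this
    omega

theorem coeff_sgen_free (j : Fin (m + 1 + 1)) (β : ↥(mons (m + 1) d 0 \ corr (m + 1) d 0 (ch j))) :
    φ (k := k) d j β.1 = X (Sum.inr β) := by
  classical
  rw [φ, sgen, coeff_add, coeff_sum, free, coeff_sum, Finset.sum_eq_single β (fun b _ hb => by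
      rw [coeff_monomial, if_neg fun h => hb (Subtype.ext h)]) (fun h => absurd (Finset.mem_univ _) h),
    coeff_monomial, if_pos rfl, Finset.sum_eq_zero, add_zero]
  intro i hi
  rw [coeff_monomial, if_neg]
  intro h
  exact (Finset.mem_sdiff.1 β.2).2 (by simp only [corr, Finset.mem_image]; exact ⟨i, hi, h⟩)

theorem coeff_sgen_cor (j i : Fin (m + 1 + 1)) : φ (k := k) d j (cor (d - 1) j i) = amt (ch j) i := by
  classical
  rw [φ, sgen, coeff_add, coeff_sum, free, coeff_sum, Finset.sum_eq_zero, zero_add, Finset.sum_eq_single i,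
    coeff_monomial, if_pos (show cor (d - 1) (ch j).1.1 i = cor (d - 1) j i from rfl)]
  · intro b _ hb
    rw [coeff_monomial]
    exact if_neg fun h => hb (cor_injective _ _ h)
  · intro h; exact absurd (by simp [fixd, ch]) h
  · intro b _
    rw [coeff_monomial, if_neg]
    intro h
    exact (Finset.mem_sdiff.1 b.2).2 (by simp only [corr, Finset.mem_image]; exact ⟨i, by simp [fixd, ch], h.symm⟩)

theorem exists_relIdeal_generator [IsAlgClosed k] (hd : 2 ≤ d) :
    ∃ R : MvPolynomial ↥(allMons (m + 1) d) k, Irreducible R ∧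
      ∀ Q, Q ∈ relIdeal k (m + 1) d ↔ R ∣ Q := by
  classical
  let j : Fin (m + 1 + 1) := 0
  let Q := mons (m + 1) d 0 \ corr (m + 1) d 0 (ch j)
  have hM : ∀ β, β ∈ mons (m + 1) d 0 → β ∈ allMons (m + 1) d := fun β h => (mons_zero (by omega : 1 ≤ d)) ▸ h
  have hcor : ∀ i, cor (d - 1) j i ∈ allMons (m + 1) d := fun i => hM _ (cor_mem _ _ _ hd (Or.inl (Nat.zero_le _)))
  let g : Option (Fin (m + 1) ⊕ ↥Q) → ↥(allMons (m + 1) d) := fun o => o.elim
    ⟨_, hcor (Fin.last (m + 1))⟩
    (Sum.elim (fun i => ⟨_, hcor i.castSucc⟩) (fun β => ⟨β.1, hM _ (Finset.mem_sdiff.1 β.2).1⟩))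
  have hnot : ∀ i, cor (d - 1) j i ∉ Q := fun i h => (Finset.mem_sdiff.1 h).2 (by
    simp only [corr, Finset.mem_image]; exact ⟨i, by simp [fixd, ch], rfl⟩)
  have hinj : Function.Injective g := by
    intro a b h
    have h' := congrArg Subtype.val h
    rcases a with _ | (a | a) <;> rcases b with _ | (b | b) <;>
      simp only [g, Option.elim_none, Option.elim_some, Sum.elim_inl, Sum.elim_inr] at h'
    · rfl
    · exact absurd (cor_injective _ _ h').symm (Fin.castSucc_lt_last b).ne
    · exact absurd (h'.symm ▸ b.2) (hnot _)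
    · exact absurd (cor_injective _ _ h') (Fin.castSucc_lt_last a).ne
    · rw [Fin.castSucc_injective _ (cor_injective _ _ h')]
    · exact absurd (h'.symm ▸ b.2) (hnot _)
    · exact absurd (h' ▸ a.2) (hnot _)
    · exact absurd (h' ▸ a.2) (hnot _)
    · rw [Subtype.ext h']
  have hcard : Fintype.card (Option (Fin (m + 1) ⊕ ↥Q)) = Fintype.card ↥(allMons (m + 1) d) := by
    rw [Fintype.card_option, Fintype.card_sum, Fintype.card_fin, Fintype.card_coe, Fintype.card_coe,
      ← mons_zero (by omega : 1 ≤ d), ← Finset.card_sdiff_add_card_eq_card (corr_subset _ _ _ hd (ch j))]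
    have : (corr (m + 1) d 0 (ch j)).card = m + 1 + 1 := by
      rw [corr, Finset.card_image_of_injective _ (cor_injective _ _)]
      simp [fixd, ch]
    show m + 1 + Q.card + 1 = Q.card + _
    omega
  let e := (Equiv.ofBijective g ((Fintype.bijective_iff_injective_and_card g).2 ⟨hinj, hcard⟩)).symm
  let Fm : MvPolynomial (Fin (m + 1 + 1)) k := qform d m
  let c₀ : ↥Q → k := fun β => coeff β.1 Fm
  have hsurj : ∀ y : Fin (m + 1) → k, ∃ x : ↥(vars (m + 1) 0 j true) → k, ∀ i,
      eval (Sum.elim x c₀) (amt (ch j) i.castSucc : MvPolynomial (SPar (m + 1) d 0 (ch j)) k) = y i := by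
    intro y
    obtain ⟨w, hw, hwq⟩ := exists_eval_qd m (fun i => -y i.succ) (y 0)
    set v : Fin (m + 1 + 1) → k := Fin.cons 1 w with hv
    refine ⟨fun l => v l.1, fun i => ?_⟩
    set z : SPar (m + 1) d 0 (ch j) → k := Sum.elim (fun l => v l.1) c₀ with hz
    have hgpt : (fun l => eval z (gpt (k := k) (d := d) (ch j) l)) = v := by
      funext l
      simp only [gpt, pt]
      split_ifs with h h'
      · have : l = 0 := h
        subst this; rw [map_one, hv, Fin.cons_zero]
      · simp [z]
      · exact absurd (by simp [vars, ch] at h ⊢; exact h) h'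
    have hfree : MvPolynomial.map (eval z) (free (k := k) (P := ↥(vars (m + 1) 0 (ch j).1.1 (ch j).1.2)) Q) = Fm := by
      rw [map_free]
      show ∑ β : ↥Q, monomial β.1 (coeff β.1 Fm) = Fm
      rw [Finset.sum_coe_sort Q (fun β => monomial β (coeff β Fm))]
      conv_rhs => rw [Fm.as_sum]
      exact (Finset.sum_subset (support_qform hd) fun β _ hb => by rw [notMem_support_iff.1 hb, map_zero]).symm
    have heval : ∀ p : MvPolynomial (Fin (m + 1 + 1)) (MvPolynomial (SPar (m + 1) d 0 (ch j)) k),
        eval z (eval (gpt (ch j)) p) = eval v (MvPolynomial.map (eval z) p) := by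
      intro p
      rw [eval_map, ← hgpt]
      induction p using MvPolynomial.induction_on with
      | C a => simp
      | add p q hp hq => simp only [map_add, eval₂_add, hp, hq]
      | mul_X p i hp => simp only [map_mul, eval₂_mul, eval₂_X, hp, eval_X]
    have hF0 : eval v Fm = eval w (qd m) := by
      show eval v (qform d m) = _
      rw [qform, map_mul, map_pow, eval_X, eval_rename, hv, Fin.cons_zero, one_pow, one_mul, Fin.cons_comp_succ]
    have hF1 : ∀ l : Fin (m + 1), eval v (pderiv l.succ Fm) = eval w (pderiv l (qd m)) := by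
      intro l
      show eval v (pderiv l.succ (qform d m)) = _
      rw [qform, pderiv_mul, pderiv_pow, pderiv_X_of_ne (Fin.succ_ne_zero l).symm,
        pderiv_rename (Fin.succ_injective _)]
      simp only [mul_zero, zero_mul, zero_add, map_mul, map_pow, eval_X, eval_rename, hv, Fin.cons_zero, one_pow,
        one_mul, Fin.cons_comp_succ]
    rcases Fin.eq_zero_or_eq_succ i with rfl | ⟨l, rfl⟩
    · unfold amt
      simp only
      rw [Fin.castSucc_zero, if_pos (show (0 : Fin (m + 1 + 1)) = (ch j).1.1 from rfl)]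
      show eval z _ = y 0
      rw [map_add, map_neg, heval, hfree, map_sum, hF0, hwq]
      have hs : ∀ l ∈ (fixd (m + 1) 0 (ch j).1.2).erase (ch j).1.1, eval z (eval (gpt (ch j)) (pderiv l
          (free (k := k) Q)) * gpt (ch j) l) = eval v (pderiv l Fm) * v l := fun l _ => by
        rw [map_mul, heval, ← pderiv_map', hfree, congrFun hgpt l]
      rw [Finset.sum_congr rfl hs]
      have hfix : (fixd (m + 1) 0 (ch j).1.2).erase (ch j).1.1 =
          Finset.univ.map ⟨Fin.succ, Fin.succ_injective _⟩ := by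
        ext l
        simp only [fixd, ch, if_true, Finset.mem_erase, Finset.mem_univ, and_true, Finset.mem_map, true_and,
          Function.Embedding.coeFn_mk, ne_eq]
        exact ⟨fun h => ⟨l.pred h, Fin.succ_pred l h⟩, fun ⟨a, ha⟩ => ha ▸ Fin.succ_ne_zero a⟩
      rw [hfix, Finset.sum_map]
      simp only [Function.Embedding.coeFn_mk, hF1]
      simp only [hv, Fin.cons_succ]
      have hE := congrArg (eval w) (isHomogeneous_qd (k := k) m).sum_X_mul_pderiv
      rw [map_sum, nsmul_eq_mul, map_mul, hwq] at hE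
      simp only [map_mul, eval_X, map_ofNat, Nat.cast_ofNat] at hE
      rw [Finset.sum_congr rfl fun l _ => mul_comm (eval w (pderiv l (qd m))) (w l), hE]
      ring
    · unfold amt
      simp only
      have hc : (l.succ).castSucc = (l.castSucc).succ := Fin.succ_castSucc l ▸ rfl
      rw [if_neg (show ¬ (l.succ).castSucc = (ch j).1.1 by rw [hc]; exact Fin.succ_ne_zero _)]
      show eval z _ = y l.succ
      rw [map_neg, heval, ← pderiv_map', hfree, hc, hF1, hw, neg_neg]
  have hind := indep_of_surjective (fun i : Fin (m + 1) => (amt (ch j) i.castSucc :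
    MvPolynomial (SPar (m + 1) d 0 (ch j)) k)) c₀ hsurj
  have hfun : (fun t => φ (k := k) d (0 : Fin (m + 1 + 1)) (e.symm (some t)).1) =
      Sum.elim (fun i : Fin (m + 1) => (amt (ch j) i.castSucc : MvPolynomial (SPar (m + 1) d 0 (ch j)) k))
        (fun β => X (Sum.inr β)) := by
    funext t
    rcases t with i | β
    · exact coeff_sgen_cor j _
    · exact coeff_sgen_free j β
  obtain ⟨R, h1, h2⟩ := principal_of_indep (B := MvPolynomial (SPar (m + 1) d 0 (ch (0 : Fin (m + 1 + 1)))) k)
    (fun β : ↥(allMons (m + 1) d) => φ (k := k) d (0 : Fin (m + 1 + 1)) β.1) e (hfun ▸ hind)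
    (exists_rel (by
      rw [Fintype.card_coe, ← mons_zero (by omega : 1 ≤ d)]
      exact card_spar _ _ _ hd (Nat.zero_le _) _ (fun h => nomatch h)) _)
  exact ⟨R, h1, fun Q => by rw [relIdeal, RingHom.mem_ker]; exact h2 Q⟩

end Groth.Agent.GenDim
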