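import Mathlib
import Groth.Prelude.Def_LefPen
import Groth.Agent.GenDim.DiscrQuad

/-!
# Irreducibility of the discriminant
-/

set_option autoImplicit false
universe u

namespace Groth.Agent.GenDim

open MvPolynomial

variable {k : Type u} [Field k] {n d : ℕ}

/-- The generic form. -/
noncomputable def genForm (k : Type u) [Field k] (n d : ℕ) :
    MvPolynomial (Fin (n + 1)) (MvPolynomial ↥(allMons n d) k) :=
  ∑ β : ↥(allMons n d), monomial β.1 (X β)

theorem map_genForm (G : MvPolynomial (Fin (n + 1)) k) (hG : G.support ⊆ allMons n d) :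
    MvPolynomial.map (eval fun β : ↥(allMons n d) => coeff β.1 G) (genForm k n d) = G := by
  classical
  simp only [genForm, map_sum, map_monomial, eval_X]
  rw [Finset.sum_coe_sort (allMons n d) (fun β => monomial β (coeff β G))]
  conv_rhs => rw [G.as_sum]
  exact (Finset.sum_subset hG fun β _ hb => by rw [notMem_support_iff.1 hb, map_zero]).symm

theorem homogeneousComponent_mul' {σ R : Type*} [CommRing R] {a : MvPolynomial σ R} {G : MvPolynomial σ R}
    {e D : ℕ} (hG : G.IsHomogeneous e) (hD : e ≤ D) :
    homogeneousComponent D (a * G) = homogeneousComponent (D - e) a * G := by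
  classical
  induction a using MvPolynomial.induction_on' with
  | monomial γ c =>
    rw [homogeneousComponent_of_mem (isHomogeneous_monomial (d := γ) c rfl),
      homogeneousComponent_of_mem ((isHomogeneous_monomial (d := γ) c rfl).mul hG)]
    by_cases h : D = γ.degree + e
    · rw [if_pos h, if_pos (by omega)]
    · rw [if_neg h, if_neg (by omega), zero_mul]
  | add p q hp hq => simp only [add_mul, map_add, hp, hq]

theorem exists_relation_ne_zero [IsAlgClosed k] (hd : 2 ≤ d) (G : MvPolynomial (Fin (n + 1)) k)
    (hG : G.IsHomogeneous d) (hns : ¬ IsSing G) :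
    ∃ f ∈ relIdeal k n d, eval (fun β : ↥(allMons n d) => coeff β.1 G) f ≠ 0 := by
  classical
  let J : Ideal (MvPolynomial (Fin (n + 1)) k) := Ideal.span (insert G (Set.range fun i => pderiv i G))
  have hrad : ∀ j, (X j : MvPolynomial (Fin (n + 1)) k) ∈ J.radical := by
    intro j
    rw [← vanishingIdeal_zeroLocus_eq_radical (K := k)]
    intro x hx
    have hx0 : x = 0 := by
      by_contra hne
      refine hns ⟨x, hne, ?_, fun i => ?_⟩
      · have := hx G (Ideal.subset_span (Set.mem_insert _ _))
        rwa [aeval_eq_eval] at this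
      · have := hx (pderiv i G) (Ideal.subset_span (Set.mem_insert_of_mem _ ⟨i, rfl⟩))
        rwa [aeval_eq_eval] at this
    rw [aeval_X, hx0, Pi.zero_apply]
  choose N hN using hrad
  set D := (n + 1) * Finset.univ.sup N + d with hD
  have hcomb : ∀ γ : ↥(allMons n D), ∃ (q : MvPolynomial (Fin (n + 1)) k)
      (r : Fin (n + 1) → MvPolynomial (Fin (n + 1)) k), q.IsHomogeneous (D - d) ∧
      (∀ i, (r i).IsHomogeneous (D - (d - 1))) ∧ monomial γ.1 1 = q * G + ∑ i, r i * pderiv i G := by
    intro γ
    have hγ := γ.2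
    rw [Finset.mem_finsuppAntidiag] at hγ
    obtain ⟨j, hj⟩ : ∃ j, N j ≤ γ.1 j := by
      by_contra hc
      push Not at hc
      have : ∑ i, γ.1 i ≤ (n + 1) * Finset.univ.sup N := by
        refine (Finset.sum_le_sum (g := fun _ => Finset.univ.sup N) fun i _ =>
          (hc i).le.trans (Finset.le_sup (Finset.mem_univ i))).trans ?_
        simp
      rw [hγ.1] at this
      omega
    have hmem : monomial γ.1 (1 : k) ∈ J := by
      have : monomial γ.1 (1 : k) = monomial (γ.1 - Finsupp.single j (N j)) 1 * X j ^ N j := by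
        rw [X_pow_eq_monomial, monomial_mul, one_mul, tsub_add_cancel_of_le (Finsupp.single_le_iff.2 hj)]
      rw [this]
      exact J.mul_mem_left _ (hN j)
    obtain ⟨a, z, hz, haz⟩ := Ideal.mem_span_insert.1 hmem
    obtain ⟨c, hc⟩ := Ideal.mem_span_range_iff_exists_fun.1 hz
    refine ⟨homogeneousComponent (D - d) a, fun i => homogeneousComponent (D - (d - 1)) (c i),
      homogeneousComponent_isHomogeneous _ _, fun i => homogeneousComponent_isHomogeneous _ _, ?_⟩
    have hm : (monomial γ.1 (1 : k)).IsHomogeneous D :=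
      isHomogeneous_monomial _ (by rw [Finsupp.degree_eq_sum]; exact hγ.1)
    rw [← homogeneousComponent_eq_self hm, haz, ← hc, map_add, map_sum,
      homogeneousComponent_mul' hG (by omega)]
    exact congrArg _ (Finset.sum_congr rfl fun i _ => homogeneousComponent_mul' hG.pderiv (by omega))
  choose q r hq hr hqr using hcomb
  let H : ↥(allMons n D) → MvPolynomial (Fin (n + 1)) (MvPolynomial ↥(allMons n d) k) := fun γ =>
    MvPolynomial.map C (q γ) * genForm k n d + ∑ i, MvPolynomial.map C (r γ i) * pderiv i (genForm k n d)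
  have hmapH : ∀ (K : MvPolynomial (Fin (n + 1)) k), K.support ⊆ allMons n d → ∀ γ,
      MvPolynomial.map (eval fun β : ↥(allMons n d) => coeff β.1 K) (H γ) =
        q γ * K + ∑ i, r γ i * pderiv i K := by
    intro K hK γ
    have hC : ∀ p : MvPolynomial (Fin (n + 1)) k,
        MvPolynomial.map (eval fun β : ↥(allMons n d) => coeff β.1 K) (MvPolynomial.map C p) = p := fun p => by
      rw [map_map, show (eval fun β : ↥(allMons n d) => coeff β.1 K).comp C = RingHom.id k from
        RingHom.ext fun a => eval_C a, MvPolynomial.map_id]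
    simp only [H, map_add, map_sum, map_mul, hC, ← pderiv_map', map_genForm K hK]
  let M : Matrix ↥(allMons n D) ↥(allMons n D) (MvPolynomial ↥(allMons n d) k) :=
    Matrix.of fun γ γ' => coeff γ'.1 (H γ)
  have hevM : ∀ (K : MvPolynomial (Fin (n + 1)) k), K.support ⊆ allMons n d →
      eval (fun β : ↥(allMons n d) => coeff β.1 K) M.det =
        (Matrix.of fun γ γ' : ↥(allMons n D) => coeff γ'.1 (q γ * K + ∑ i, r γ i * pderiv i K)).det := by
    intro K hK
    rw [RingHom.map_det]
    congr 1
    ext γ γ'
    rw [RingHom.mapMatrix_apply, Matrix.map_apply, Matrix.of_apply, ← hmapH K hK γ, coeff_map]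
    rfl
  refine ⟨M.det, ?_, ?_⟩
  · rw [relIdeal, RingHom.mem_ker]
    refine MvPolynomial.funext fun z => ?_
    rw [eval_aeval, map_zero]
    set K := MvPolynomial.map (eval z) (sgen (k := k) (d := d) (ch (0 : Fin (n + 1)))) with hK
    have hKs : K.support ⊆ allMons n d := support_map_sgen hd _ z
    have : (fun β : ↥(allMons n d) => eval z (φ (k := k) d (0 : Fin (n + 1)) β.1)) = fun β => coeff β.1 K :=
      funext fun β => (coeff_map_sgen _ _ _).symm
    rw [this, hevM K hKs]
    set v := zpt (0 : Fin (n + 1)) z with hv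
    obtain ⟨h0, h1⟩ := isSing_at hd (0 : Fin (n + 1)) z
    rw [← Matrix.exists_mulVec_eq_zero_iff]
    refine ⟨fun γ => ∏ i, v i ^ γ.1 i, ?_, ?_⟩
    · intro h
      have hD' : Finsupp.single (0 : Fin (n + 1)) D ∈ allMons n D := by
        rw [Finset.mem_finsuppAntidiag]
        exact ⟨by simp, Finset.subset_univ _⟩
      have := congrFun h ⟨_, hD'⟩
      simp only [Pi.zero_apply] at this
      rw [Finset.prod_eq_single (0 : Fin (n + 1)) (fun b _ hb => by simp [Finsupp.single_eq_of_ne hb])
        (fun h => absurd (Finset.mem_univ _) h), hv, zpt_self, one_pow] at this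
      exact one_ne_zero this
    · funext γ
      have hhom : (q γ * K + ∑ i, r γ i * pderiv i K).IsHomogeneous D := by
        have hKh := isHomogeneous_of_support hKs
        refine IsHomogeneous.add ?_ (IsHomogeneous.sum _ _ _ fun i _ => ?_)
        · have := (hq γ).mul hKh
          rwa [show D - d + d = D by omega] at this
        · have := (hr γ i).mul (hKh.pderiv (i := i))
          rwa [show D - (d - 1) + (d - 1) = D by omega] at this
      have hz : eval v (q γ * K + ∑ i, r γ i * pderiv i K) = 0 := by
        simp only [map_add, map_sum, map_mul, hK, hv, h0, h1, mul_zero, Finset.sum_const_zero, add_zero]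
      rw [Pi.zero_apply, ← hz, eval_eq']
      simp only [Matrix.mulVec, dotProduct, Matrix.of_apply]
      rw [Finset.sum_coe_sort (allMons n D) (fun γ' => coeff γ' (q γ * K + ∑ i, r γ i * pderiv i K) *
        ∏ i, v i ^ γ' i)]
      exact (Finset.sum_subset (forms_support _ hhom) fun β _ hb => by
        rw [notMem_support_iff.1 hb, zero_mul]).symm
  · rw [hevM G (forms_support G hG)]
    have : (Matrix.of fun γ γ' : ↥(allMons n D) => coeff γ'.1 (q γ * G + ∑ i, r γ i * pderiv i G)) = 1 := by
      ext γ γ'
      rw [Matrix.of_apply, ← hqr γ, coeff_monomial, Matrix.one_apply]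
      exact if_congr Subtype.ext_iff.symm rfl rfl
    rw [this, Matrix.det_one]
    exact one_ne_zero

set_option maxHeartbeats 1000000 in
theorem exists_irreducible_discriminant [IsAlgClosed k] (n d : ℕ) (hn : 1 ≤ n) (hd : 2 ≤ d) :
    ∃ Δ : ↥(Algebra.adjoin k (Set.range (fun l : Module.Dual k (LefPen.Form n k d) => (l : LefPen.Form n k d → k)))),
      Irreducible Δ ∧ ∀ G : LefPen.Form n k d, IsSing G.1 ↔ Δ.1 G = 0 := by
  classical
  obtain ⟨m, rfl⟩ : ∃ m, n = m + 1 := ⟨n - 1, by omega⟩
  obtain ⟨R, hR, hgen⟩ := exists_relIdeal_generator (k := k) (d := d) (m := m) hd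
  let V := LefPen.Form (m + 1) k d
  let crd : ↥(allMons (m + 1) d) → Module.Dual k V := fun β => (lcoeff k β.1) ∘ₗ Submodule.subtype _
  let mono : ↥(allMons (m + 1) d) → V := fun β => ⟨monomial β.1 (1 : k), isHomogeneous_of_mem β.2⟩
  have hcrd : ∀ G : V, (fun β => crd β G) = fun β : ↥(allMons (m + 1) d) => coeff β.1 G.1 := fun G => rfl
  have hdecomp : ∀ G : V, G = ∑ β, crd β G • mono β := by
    intro G
    apply Subtype.ext
    rw [Submodule.coe_sum]
    conv_lhs => rw [← map_genForm G.1 (forms_support G.1 G.2)]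
    simp only [genForm, map_sum, map_monomial, eval_X]
    refine Finset.sum_congr rfl fun β _ => ?_
    show monomial β.1 (coeff β.1 G.1) = coeff β.1 G.1 • monomial β.1 (1 : k)
    rw [smul_monomial, smul_eq_mul, mul_one]
  let Ψ : MvPolynomial ↥(allMons (m + 1) d) k →ₐ[k] (V → k) := aeval fun β => (crd β : V → k)
  have hΨ : ∀ (P : MvPolynomial ↥(allMons (m + 1) d) k) (G : V), Ψ P G = eval (fun β => coeff β.1 G.1) P := by
    intro P G
    induction P using MvPolynomial.induction_on with
    | C a => simp [Ψ]
    | add p q hp hq => simp only [map_add, Pi.add_apply, hp, hq]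
    | mul_X p i hp => simp only [map_mul, Pi.mul_apply, hp, eval_X]; congr 1; exact congrFun (aeval_X _ i) G
  have hrange : Ψ.range = Algebra.adjoin k (Set.range (fun l : Module.Dual k V => (l : V → k))) := by
    refine le_antisymm ?_ (Algebra.adjoin_le ?_)
    · rintro _ ⟨P, rfl⟩
      induction P using MvPolynomial.induction_on with
      | C a => exact (Ψ.commutes a).symm ▸ Subalgebra.algebraMap_mem _ a
      | add p q hp hq => rw [map_add]; exact Subalgebra.add_mem _ hp hq
      | mul_X p i hp =>
        rw [map_mul]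
        refine Subalgebra.mul_mem _ hp (Algebra.subset_adjoin ⟨crd i, ?_⟩)
        exact (aeval_X (R := k) (fun β => (crd β : V → k)) i).symm
    · rintro _ ⟨l, rfl⟩
      refine ⟨∑ β, C (l (mono β)) * X β, funext fun G => ?_⟩
      show Ψ _ G = l G
      rw [hΨ]
      conv_rhs => rw [hdecomp G]
      simp only [map_sum, map_mul, eval_C, eval_X, map_smul, smul_eq_mul]
      exact Finset.sum_congr rfl fun β _ => mul_comm _ _
  have hinj : Function.Injective Ψ := by
    intro P P' h
    refine MvPolynomial.funext fun c => ?_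
    let G : V := ∑ β, c β • mono β
    have hG : (fun β : ↥(allMons (m + 1) d) => coeff β.1 G.1) = c := by
      funext β
      show coeff β.1 (∑ b, c b • mono b : V).1 = c β
      rw [Submodule.coe_sum, coeff_sum, Finset.sum_eq_single β]
      · show coeff β.1 (c β • monomial β.1 (1 : k)) = c β
        rw [coeff_smul, coeff_monomial, if_pos rfl, smul_eq_mul, mul_one]
      · intro b _ hb
        show coeff β.1 (c b • monomial b.1 (1 : k)) = 0
        rw [coeff_smul, coeff_monomial, if_neg fun h => hb (Subtype.ext h), smul_zero]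
      · exact fun h => absurd (Finset.mem_univ _) h
    rw [← hG, ← hΨ, ← hΨ, h]
  let e := (AlgEquiv.ofInjective Ψ hinj).trans (Subalgebra.equivOfEq _ _ hrange)
  refine ⟨e R, (MulEquiv.irreducible_iff e.toMulEquiv).2 hR, fun G => ?_⟩
  have he : (e R).1 G = eval (fun β => coeff β.1 G.1) R := hΨ R G
  rw [he]
  constructor
  · exact eval_eq_zero_of_mem hd R ((hgen R).2 dvd_rfl) G.1 G.2
  · intro h0
    by_contra hns
    obtain ⟨f, hf, hf0⟩ := exists_relation_ne_zero hd G.1 G.2 hns
    obtain ⟨c, rfl⟩ := (hgen f).1 hf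
    exact hf0 (by rw [map_mul, h0, zero_mul])

end Groth.Agent.GenDim
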