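import Mathlib
import Groth.Agent.GenDim.Smooth
import Groth.Agent.BinForm.Basic
import Groth.Agent.FanoLines.Chart

/-!
# A general hypersurface through a linear subspace is smooth: coordinates
-/

set_option autoImplicit false
universe u

namespace Groth.Agent.GenDim

open MvPolynomial

variable {k : Type u} [Field k]

theorem exists_coords {N : ℕ} (U : Submodule k (Fin N → k)) :
    ∃ g : (Fin N → k) ≃ₗ[k] (Fin N → k),
      ∀ x, g x ∈ U ↔ ∀ i : Fin N, Module.finrank k ↥U ≤ (i : ℕ) → x i = 0 := by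
  classical
  obtain ⟨C, hC⟩ := U.exists_isCompl
  set r := Module.finrank k ↥U
  have hadd : r + Module.finrank k ↥C = N := by
    rw [Submodule.finrank_add_eq_of_isCompl hC, Module.finrank_fin_fun]
  let b : Module.Basis (Fin N) k (Fin N → k) :=
    (((Module.finBasis k ↥U).prod (Module.finBasis k ↥C)).map (Submodule.prodEquivOfIsCompl U C hC)).reindex
      (finSumFinEquiv.trans (finCongr hadd))
  refine ⟨b.equivFun.symm, fun x => ?_⟩
  have hb : ∀ (y : ↥U × ↥C) (j : Fin (Module.finrank k ↥C)) (i : Fin N), (i : ℕ) = r + j →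
      b.equivFun ((Submodule.prodEquivOfIsCompl U C hC) y) i = (Module.finBasis k ↥C).repr y.2 j := by
    intro y j i hi
    rw [Module.Basis.equivFun_apply, Module.Basis.repr_reindex_apply, Module.Basis.map_repr,
      LinearEquiv.trans_apply, LinearEquiv.symm_apply_apply]
    have : (finSumFinEquiv.trans (finCongr hadd)).symm i = Sum.inr j := by
      rw [Equiv.symm_apply_eq]
      exact Fin.ext (by simp [hi, r])
    rw [this, Module.Basis.prod_repr_inr]
  obtain ⟨y, hy⟩ := (Submodule.prodEquivOfIsCompl U C hC).surjective (b.equivFun.symm x)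
  have hx : x = b.equivFun ((Submodule.prodEquivOfIsCompl U C hC) y) := by
    rw [hy, LinearEquiv.apply_symm_apply]
  have hmem : b.equivFun.symm x ∈ U ↔ y.2 = 0 := by
    rw [← hy, Submodule.coe_prodEquivOfIsCompl']
    constructor
    · intro h
      have : (y.2 : Fin N → k) ∈ U := by
        have := U.sub_mem h y.1.2
        simpa using this
      exact Subtype.ext ((Submodule.disjoint_def.1 hC.disjoint) _ this y.2.2)
    · intro h; rw [h]; simp
  rw [hmem]
  constructor
  · intro h i hi
    have hlt := i.2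
    rw [hx, hb y ⟨(i : ℕ) - r, by omega⟩ i (by simp; omega), h, map_zero]
    rfl
  · intro h
    refine (Module.finBasis k ↥C).repr.map_eq_zero_iff.1 (Finsupp.ext fun j => ?_)
    have := h ⟨r + j, by omega⟩ (by simp)
    rw [hx, hb y j _ rfl] at this
    simpa using this

/-- Substitution along a linear map. -/
noncomputable def lsubst {N : ℕ} (g : (Fin N → k) →ₗ[k] (Fin N → k)) :
    MvPolynomial (Fin N) k →ₐ[k] MvPolynomial (Fin N) k :=
  bind₁ fun l => ∑ j, C (g (Pi.single j 1) l) * X j

theorem eval_lsubst {N : ℕ} (g : (Fin N → k) →ₗ[k] (Fin N → k)) (x : Fin N → k) (p : MvPolynomial (Fin N) k) :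
    eval x (lsubst g p) = eval (g x) p := by
  show eval x (aeval _ p) = _
  rw [eval_aeval]
  congr 2
  funext l
  conv_rhs => rw [pi_eq_sum_univ' x]
  simp [map_sum, mul_comm]

theorem isHomogeneous_lsubst {N d : ℕ} (g : (Fin N → k) →ₗ[k] (Fin N → k)) {p : MvPolynomial (Fin N) k}
    (hp : p.IsHomogeneous d) : (lsubst g p).IsHomogeneous d := by
  have := hp.aeval (fun l => ∑ j, C (g (Pi.single j 1) l) * X j) (n := 1) fun l =>
    IsHomogeneous.sum _ _ _ fun j _ => isHomogeneous_C_mul_X _ _
  rwa [one_mul] at this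

theorem eval_pderiv_lsubst {N : ℕ} (g : (Fin N → k) →ₗ[k] (Fin N → k)) (p : MvPolynomial (Fin N) k)
    (j : Fin N) (x : Fin N → k) :
    eval x (pderiv j (lsubst g p)) = ∑ l, g (Pi.single j 1) l * eval (g x) (pderiv l p) := by
  classical
  show eval x (pderiv j (aeval _ p)) = _
  rw [FanoLines.pderiv_aeval, map_sum]
  refine Finset.sum_congr rfl fun l _ => ?_
  rw [map_mul]
  congr 1
  · rw [map_sum, map_sum, Finset.sum_eq_single j]
    · simp
    · intro i _ hi; simp [pderiv_X_of_ne hi]
    · simp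
  · exact eval_lsubst g x _

theorem isGeneric_smooth [Infinite k] (n d : ℕ) (hd : 2 ≤ d) (U : Submodule k (Fin (n + 1) → k))
    (hU : 2 * Module.finrank k ↥U ≤ n + 1) (W : Submodule k (LefPen.Form n k d))
    (hW : ∀ G : LefPen.Form n k d, G ∈ W ↔ ∀ u ∈ U, MvPolynomial.eval u G.1 = 0) :
    LefPen.IsGeneric k {G : ↥W | ∀ v : Fin (n + 1) → k, v ≠ 0 → MvPolynomial.eval v G.1.1 = 0 →
      ∃ i : Fin (n + 1), MvPolynomial.eval v (MvPolynomial.pderiv i G.1.1) ≠ 0} := by
  classical
  obtain ⟨g, hg⟩ := exists_coords U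
  set r := Module.finrank k ↥U with hr
  let T : ↥W →ₗ[k] MvPolynomial (Fin (n + 1)) k :=
    (lsubst g.toLinearMap).toLinearMap ∘ₗ (Submodule.subtype _) ∘ₗ W.subtype
  have hT : ∀ G : ↥W, T G = lsubst g.toLinearMap G.1.1 := fun G => rfl
  have hsupp : ∀ G : ↥W, (T G).support ⊆ mons n d r := by
    intro G β hβ
    rw [mons, Finset.mem_filter]
    refine ⟨forms_support _ (isHomogeneous_lsubst _ ((MvPolynomial.mem_homogeneousSubmodule _ _).1 G.1.2)) hβ, ?_⟩
    by_contra hcon
    push Not at hcon
    -- restriction to the first r coordinates vanishes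
    let π : Fin (n + 1) → MvPolynomial (Fin (n + 1)) k := fun l => if (l : ℕ) < r then X l else 0
    have h0 : bind₁ π (T G) = 0 := by
      refine MvPolynomial.funext fun s => ?_
      rw [map_zero]
      show eval s (aeval π (T G)) = 0
      rw [eval_aeval, hT, eval_lsubst]
      refine (hW G.1).1 G.2 _ ((hg _).2 fun i hi => ?_)
      simp [π, Nat.not_lt.2 hi]
    have h1 := congrArg (coeff β) h0
    rw [(T G).as_sum, map_sum, coeff_sum, coeff_zero, Finset.sum_eq_single β] at h1
    · rw [bind₁_monomial, Finset.prod_congr rfl (g := fun l => X l ^ β l), coeff_C_mul] at h1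
      · rw [prod_X_pow_eq_monomial, coeff_monomial, if_pos rfl, mul_one] at h1
        exact mem_support_iff.1 hβ h1
      · intro l hl
        simp only [π]
        rw [if_pos]
        by_contra hlr
        exact Finsupp.mem_support_iff.1 hl (hcon l (Nat.not_lt.1 hlr))
    · intro γ hγ hne
      rw [bind₁_monomial]
      by_cases hex : ∃ l ∈ γ.support, r ≤ (l : ℕ)
      · obtain ⟨l, hl, hlr⟩ := hex
        rw [Finset.prod_eq_zero hl, mul_zero, coeff_zero]
        simp only [π, Nat.not_lt.2 hlr, if_false]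
        exact zero_pow (Finsupp.mem_support_iff.1 hl)
      · push Not at hex
        rw [Finset.prod_congr rfl (g := fun l => X l ^ γ l) fun l hl => by simp [π, hex l hl], coeff_C_mul,
          prod_X_pow_eq_monomial, coeff_monomial, if_neg hne, mul_zero]
    · exact fun h => absurd hβ h
  have hsurj : ∀ β ∈ mons n d r, ∃ G, T G = monomial β (1 : k) := by
    intro β hβ
    rw [mons, Finset.mem_filter] at hβ
    obtain ⟨i, hir, hi⟩ := hβ.2
    let G : LefPen.Form n k d := ⟨lsubst g.symm.toLinearMap (monomial β 1),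
      (MvPolynomial.mem_homogeneousSubmodule _ _).2 (isHomogeneous_lsubst _ (isHomogeneous_of_mem hβ.1))⟩
    have hG : G ∈ W := by
      rw [hW]
      intro u hu
      show eval u (lsubst g.symm.toLinearMap (monomial β 1)) = 0
      rw [eval_lsubst, eval_monomial, one_mul]
      refine Finset.prod_eq_zero (Finsupp.mem_support_iff.2 hi) ?_
      have := (hg (g.symm u)).1 (by rw [LinearEquiv.apply_symm_apply]; exact hu) i hir
      simp [this, zero_pow hi]
    refine ⟨⟨G, hG⟩, MvPolynomial.funext fun x => ?_⟩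
    rw [hT, eval_lsubst]
    show eval _ (lsubst g.symm.toLinearMap (monomial β 1)) = _
    rw [eval_lsubst]
    simp
  refine isGeneric_mono (isGeneric_avoid T (mons n d r) hsurj
    (fun c : {c : Chart n r // c.1.2 = false → (c.1.1 : ℕ) < r} => SPar n d r c.1)
    (fun c => sgen c.1) fun c => card_spar n d r hd hU c.1 c.2) ?_
  intro G hG v hv hGv
  by_contra hcon
  push Not at hcon
  have hGh := (MvPolynomial.mem_homogeneousSubmodule _ _).1 G.1.2
  have hzero : ∀ (t : k), eval (t • v) G.1.1 = 0 ∧ ∀ l, eval (t • v) (pderiv l G.1.1) = 0 := fun t =>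
    ⟨by rw [BinForm.eval_smul_of_homogeneous hGh, hGv, mul_zero],
      fun l => by rw [BinForm.eval_smul_of_homogeneous hGh.pderiv, hcon l, mul_zero]⟩
  set y := g.symm v with hy
  have hy0 : y ≠ 0 := fun h => hv (by rw [show v = g y by simp [hy], h, map_zero])
  have key : ∀ (j : Fin (n + 1)) (b : Bool) (h1 : b = true → r ≤ (j : ℕ)) (h2 : b = false → (j : ℕ) < r),
      y j ≠ 0 → (b = false → ∀ l : Fin (n + 1), r ≤ (l : ℕ) → y l = 0) → False := by
    intro j b h1 h2 hj hl
    have hgy : g.toLinearMap ((y j)⁻¹ • y) = (y j)⁻¹ • v := by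
      rw [map_smul, hy]; simp
    obtain ⟨z, hz⟩ := exists_sparam hd (T G) (hsupp G) ⟨(j, b), h1⟩ ((y j)⁻¹ • y) (by simp [hj])
      (fun hb l hlr => by simp [hl hb l hlr]) h2
      (by rw [hT, eval_lsubst, hgy]; exact (hzero _).1)
      (fun l => by
        rw [hT, eval_pderiv_lsubst, hgy]
        exact Finset.sum_eq_zero fun i _ => by rw [(hzero _).2 i, mul_zero])
    exact hG ⟨⟨(j, b), h1⟩, h2⟩ z hz
  by_cases hbig : ∃ j : Fin (n + 1), r ≤ (j : ℕ) ∧ y j ≠ 0
  · obtain ⟨j, hjr, hj⟩ := hbig
    exact key j true (fun _ => hjr) (fun h => nomatch h) hj (fun h => nomatch h)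
  · push Not at hbig
    obtain ⟨j, hj⟩ := Function.ne_iff.1 hy0
    exact key j false (fun h => nomatch h) (fun _ => Nat.not_le.1 fun h => hj (hbig j h)) hj fun _ => hbig

end Groth.Agent.GenDim
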